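/-
K-SQ pack (S4625, architect helper38), leaf 462506 (Sylow 2-subgroups of `PΩ⁻_{2m}(2^k)`): shared definitions.
`rho k v` is the Siegel transformation `ρ_{e_k, v}` of the elliptic form (`e_k` the `k`-th singular basis vector).
-/
import Cfsg.Agent.S0294
import Cfsg.Agent.Lib.Helper50.SiegelOmega
import Cfsg.Agent.Lib.Helper38.SQ.Defs

set_option autoImplicit false
set_option linter.unusedVariables false
set_option linter.unusedSectionVars false

namespace Cfsg.Agent.Lib.Helper20.SQ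

open Matrix Module QuadraticMap Cfsg.Agent.Lib.Helper19 Cfsg.Agent.Lib.Helper08

variable {F : Type} [Field F] [Fintype F]

/-- the index type of the elliptic form of dimension `2 r + 2` -/
abbrev OmI (r : ℕ) : Type := (Fin r ⊕ Fin r) ⊕ Fin 2

/-- the elliptic quadratic form as a `QuadraticForm` -/
noncomputable abbrev omQ (r : ℕ) (a b : F)
    (hab : ∀ z₁ z₂ : F, z₁ ^ 2 + a * z₁ * z₂ + b * z₂ ^ 2 = 0 → z₁ = 0 ∧ z₂ = 0) :
    QuadraticForm F (OmI r → F) := (qdataMinus r a b hab).qf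

/-- the singular basis vector `e_k` -/
def omE (r : ℕ) (k : Fin r) : OmI r → F := Pi.single (Sum.inl (Sum.inl k)) 1

/-- the singular basis vector `f_k` -/
def omF (r : ℕ) (k : Fin r) : OmI r → F := Pi.single (Sum.inl (Sum.inr k)) 1

section
variable (r : ℕ) (a b : F)
  (hab : ∀ z₁ z₂ : F, z₁ ^ 2 + a * z₁ * z₂ + b * z₂ ^ 2 = 0 → z₁ = 0 ∧ z₂ = 0)

theorem omQ_coe : ⇑(omQ r a b hab) = Cfsg.quadFormMinus r F a b := rfl

theorem omQ_nondeg : (QuadraticMap.polarBilin (omQ r a b hab)).Nondegenerate :=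
  (qdataMinus r a b hab).qf_nondeg

theorem omQ_E (k : Fin r) : omQ r a b hab (omE r k) = 0 := by
  show Cfsg.quadFormMinus r F a b (omE r k) = 0
  simp [Cfsg.quadFormMinus, omE]

theorem omQ_F (k : Fin r) : omQ r a b hab (omF r k) = 0 := by
  show Cfsg.quadFormMinus r F a b (omF r k) = 0
  simp [Cfsg.quadFormMinus, omF]

theorem polar_E (k : Fin r) (x : OmI r → F) :
    polar (⇑(omQ r a b hab)) (omE r k) x = x (Sum.inl (Sum.inr k)) := by
  show polar (Cfsg.quadFormMinus r F a b) (omE r k) x = _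
  unfold polar
  simp only [Cfsg.quadFormMinus, omE, Pi.add_apply, Pi.single_apply, Sum.inl.injEq,
    reduceCtorEq, if_false, zero_add, add_mul, Finset.sum_add_distrib]
  simp [Finset.sum_ite_eq']

theorem polar_F (k : Fin r) (x : OmI r → F) :
    polar (⇑(omQ r a b hab)) (omF r k) x = x (Sum.inl (Sum.inl k)) := by
  show polar (Cfsg.quadFormMinus r F a b) (omF r k) x = _
  unfold polar
  simp only [Cfsg.quadFormMinus, omF, Pi.add_apply, Pi.single_apply, Sum.inl.injEq,
    reduceCtorEq, if_false, zero_add, mul_add, Finset.sum_add_distrib]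
  simp [Finset.sum_ite_eq']

/-- the Siegel transformation `ρ_{e_k, v}` as a linear map -/
noncomputable def rhoLin (k : Fin r) (v : OmI r → F) : (OmI r → F) →ₗ[F] (OmI r → F) :=
  Cfsg.Agent.Lib.Helper43.siegelLin (omQ r a b hab) (omE r k) v

theorem polarBilin_E (k : Fin r) (x : OmI r → F) :
    QuadraticMap.polarBilin (omQ r a b hab) x (omE r k) = x (Sum.inl (Sum.inr k)) := by
  rw [QuadraticMap.polarBilin_apply_apply, polar_comm, polar_E]

theorem polarBilin_E' (k : Fin r) (x : OmI r → F) :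
    QuadraticMap.polarBilin (omQ r a b hab) (omE r k) x = x (Sum.inl (Sum.inr k)) := by
  rw [QuadraticMap.polarBilin_apply_apply, polar_E]

theorem rhoLin_apply (k : Fin r) (v x : OmI r → F) :
    rhoLin r a b hab k v x =
      x + (polar (⇑(omQ r a b hab)) x v - omQ r a b hab v * x (Sum.inl (Sum.inr k))) • omE r k +
        (-x (Sum.inl (Sum.inr k))) • v := by
  unfold rhoLin
  rw [Cfsg.Agent.Lib.Helper43.siegelLin_apply, polarBilin_E, QuadraticMap.polarBilin_apply_apply]

theorem rhoLin_isometry (k : Fin r) (v : OmI r → F) (hv : v (Sum.inl (Sum.inr k)) = 0)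
    (x : OmI r → F) : omQ r a b hab (rhoLin r a b hab k v x) = omQ r a b hab x :=
  Cfsg.Agent.Lib.Helper43.siegelLin_isometry (omQ r a b hab) (omE r k) v (omQ_E r a b hab k)
    (by rw [polarBilin_E', hv]) x

theorem rhoLin_comp (k : Fin r) (v v' : OmI r → F) (hv : v (Sum.inl (Sum.inr k)) = 0)
    (hv' : v' (Sum.inl (Sum.inr k)) = 0) :
    rhoLin r a b hab k v ∘ₗ rhoLin r a b hab k v' = rhoLin r a b hab k (v + v') :=
  Cfsg.Agent.Lib.Helper43.siegelLin_comp (omQ r a b hab) (omE r k) v v' (omQ_E r a b hab k)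
    (by rw [polarBilin_E', hv]) (by rw [polarBilin_E', hv'])

theorem rhoLin_zero (k : Fin r) : rhoLin r a b hab k 0 = LinearMap.id := by
  apply LinearMap.ext
  intro x
  rw [rhoLin_apply]
  simp

theorem rhoLin_comp_self [CharP F 2] (k : Fin r) (v : OmI r → F)
    (hv : v (Sum.inl (Sum.inr k)) = 0) :
    rhoLin r a b hab k v ∘ₗ rhoLin r a b hab k v = LinearMap.id := by
  rw [rhoLin_comp r a b hab k v v hv hv, CharTwo.add_self_eq_zero, rhoLin_zero]

/-- `ρ_{e_k, v}` as an element of the isometry group -/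
noncomputable def rhoO [CharP F 2] (k : Fin r) (v : OmI r → F) (hv : v (Sum.inl (Sum.inr k)) = 0) :
    ↥(Cfsg.isometryGroup F (⇑(omQ r a b hab))) :=
  ⟨⟨LinearMap.toMatrix' (rhoLin r a b hab k v), LinearMap.toMatrix' (rhoLin r a b hab k v),
    by rw [← LinearMap.toMatrix'_comp, rhoLin_comp_self r a b hab k v hv, LinearMap.toMatrix'_id],
    by rw [← LinearMap.toMatrix'_comp, rhoLin_comp_self r a b hab k v hv, LinearMap.toMatrix'_id]⟩,
    (mem_isometryGroup_iff _ _).mpr (fun x => by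
      show omQ r a b hab (LinearMap.toMatrix' (rhoLin r a b hab k v) *ᵥ x) = omQ r a b hab x
      rw [← Matrix.toLin'_apply, Matrix.toLin'_toMatrix']
      exact rhoLin_isometry r a b hab k v hv x)⟩

theorem rhoO_val [CharP F 2] (k : Fin r) (v : OmI r → F) (hv : v (Sum.inl (Sum.inr k)) = 0) :
    (((rhoO r a b hab k v hv : ↥(Cfsg.isometryGroup F (⇑(omQ r a b hab)))) : GL (OmI r) F) :
      Matrix (OmI r) (OmI r) F) = LinearMap.toMatrix' (rhoLin r a b hab k v) := rfl

theorem rhoO_mulVec [CharP F 2] (k : Fin r) (v : OmI r → F) (hv : v (Sum.inl (Sum.inr k)) = 0)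
    (x : OmI r → F) :
    (((rhoO r a b hab k v hv : ↥(Cfsg.isometryGroup F (⇑(omQ r a b hab)))) : GL (OmI r) F) :
      Matrix (OmI r) (OmI r) F) *ᵥ x = rhoLin r a b hab k v x := by
  rw [rhoO_val, ← Matrix.toLin'_apply, Matrix.toLin'_toMatrix']

theorem rhoO_mul_self [CharP F 2] (k : Fin r) (v : OmI r → F) (hv : v (Sum.inl (Sum.inr k)) = 0) :
    rhoO r a b hab k v hv * rhoO r a b hab k v hv = 1 := by
  apply Subtype.ext
  apply Units.ext
  show LinearMap.toMatrix' (rhoLin r a b hab k v) * LinearMap.toMatrix' (rhoLin r a b hab k v) = 1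
  rw [← LinearMap.toMatrix'_comp, rhoLin_comp_self r a b hab k v hv, LinearMap.toMatrix'_id]

/-- the generating set: all `ρ_{e_k, v}` with `v` supported on `e_l, f_l` (`l > k`) and the anisotropic plane -/
def omGood (k : Fin r) (v : OmI r → F) : Prop :=
  ∀ l : Fin r, l ≤ k → v (Sum.inl (Sum.inl l)) = 0 ∧ v (Sum.inl (Sum.inr l)) = 0

theorem omGood.perp {k : Fin r} {v : OmI r → F} (h : omGood r k v) :
    v (Sum.inl (Sum.inr k)) = 0 := (h k le_rfl).2

/-- the set of generators -/
def omGens [CharP F 2] : Set ↥(Cfsg.isometryGroup F (⇑(omQ r a b hab))) :=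
  {g | ∃ (k : Fin r) (v : OmI r → F) (h : omGood r k v), g = rhoO r a b hab k v h.perp}

/-- the unipotent group -/
noncomputable def omU [CharP F 2] : Subgroup ↥(Cfsg.isometryGroup F (⇑(omQ r a b hab))) :=
  Subgroup.closure (omGens r a b hab)

end

end Cfsg.Agent.Lib.Helper20.SQ
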