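/-
K-SQ pack (S4625), leaf 462506: the order of the unipotent group `omU` is at least `q ^ (r (r + 1))`.
-/
import Cfsg.Agent.Lib.Helper20.SQ.OmDefs

set_option autoImplicit false
set_option linter.unusedVariables false
set_option linter.unusedSectionVars false

namespace Cfsg.Agent.Lib.Helper20.SQ

open Matrix Module QuadraticMap Cfsg.Agent.Lib.Helper19 Cfsg.Agent.Lib.Helper08

variable {F : Type} [Field F] [Fintype F] [CharP F 2]

section
variable (r : ℕ) (a b : F)
  (hab : ∀ z₁ z₂ : F, z₁ ^ 2 + a * z₁ * z₂ + b * z₂ ^ 2 = 0 → z₁ = 0 ∧ z₂ = 0)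

/-- the action of an isometry on vectors -/
def omAct (g : ↥(Cfsg.isometryGroup F (⇑(omQ r a b hab)))) (x : OmI r → F) : OmI r → F :=
  ((g : GL (OmI r) F) : Matrix (OmI r) (OmI r) F) *ᵥ x

theorem omAct_mul (g h : ↥(Cfsg.isometryGroup F (⇑(omQ r a b hab)))) (x : OmI r → F) :
    omAct r a b hab (g * h) x = omAct r a b hab g (omAct r a b hab h x) := by
  unfold omAct
  rw [Subgroup.coe_mul, Units.val_mul, Matrix.mulVec_mulVec]

theorem omAct_one (x : OmI r → F) : omAct r a b hab 1 x = x := by
  unfold omAct
  rw [Subgroup.coe_one, Units.val_one, Matrix.one_mulVec]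

theorem omAct_list_fix (L : List ↥(Cfsg.isometryGroup F (⇑(omQ r a b hab)))) (x : OmI r → F)
    (h : ∀ g ∈ L, omAct r a b hab g x = x) : omAct r a b hab L.prod x = x := by
  induction L with
  | nil => rw [List.prod_nil, omAct_one]
  | cons g t ih =>
    rw [List.prod_cons, omAct_mul, ih (fun g' hg' => h g' (List.mem_cons_of_mem _ hg')),
      h g List.mem_cons_self]

/-- the generator attached to `(k, v)`, without a proof argument -/
noncomputable def rhoG (k : Fin r) (v : OmI r → F) : ↥(Cfsg.isometryGroup F (⇑(omQ r a b hab))) := by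
  classical
  exact if h : v (Sum.inl (Sum.inr k)) = 0 then rhoO r a b hab k v h else 1

theorem rhoG_eq (k : Fin r) (v : OmI r → F) (h : v (Sum.inl (Sum.inr k)) = 0) :
    rhoG r a b hab k v = rhoO r a b hab k v h := by
  unfold rhoG
  rw [dif_pos h]

theorem rhoG_mem (k : Fin r) (v : OmI r → F) (h : omGood r k v) :
    rhoG r a b hab k v ∈ omU r a b hab := by
  rw [rhoG_eq r a b hab k v h.perp]
  exact Subgroup.subset_closure ⟨k, v, h, rfl⟩

theorem omAct_rhoG (k : Fin r) (v : OmI r → F) (h : v (Sum.inl (Sum.inr k)) = 0) (x : OmI r → F) :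
    omAct r a b hab (rhoG r a b hab k v) x =
      x + (polar (⇑(omQ r a b hab)) x v - omQ r a b hab v * x (Sum.inl (Sum.inr k))) • omE r k +
        (-x (Sum.inl (Sum.inr k))) • v := by
  rw [rhoG_eq r a b hab k v h]
  unfold omAct
  rw [rhoO_mulVec, rhoLin_apply]

/-- `ρ_{e_k, v}` fixes `f_j` for `j < k` -/
theorem omAct_rhoG_F_of_lt (k j : Fin r) (hjk : j < k) (v : OmI r → F) (h : omGood r k v) :
    omAct r a b hab (rhoG r a b hab k v) (omF r j) = omF r j := by
  rw [omAct_rhoG r a b hab k v h.perp, polar_F, (h j hjk.le).1]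
  have h0 : omF r j (Sum.inl (Sum.inr k)) = (0 : F) := by
    unfold omF
    rw [Pi.single_apply, if_neg]
    intro hh
    have := Sum.inr.inj (Sum.inl.inj hh)
    exact (ne_of_gt hjk) this
  rw [h0]
  simp

/-- the image of `f_k` under `ρ_{e_k, v}` -/
theorem omAct_rhoG_F_self (k : Fin r) (v : OmI r → F) (h : omGood r k v) :
    omAct r a b hab (rhoG r a b hab k v) (omF r k) =
      omF r k + (-(omQ r a b hab v)) • omE r k + (-1 : F) • v := by
  rw [omAct_rhoG r a b hab k v h.perp, polar_F, (h k le_rfl).1]
  have h1 : omF r k (Sum.inl (Sum.inr k)) = (1 : F) := by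
    unfold omF
    rw [Pi.single_apply, if_pos rfl]
  rw [h1]
  simp

/-- peeling: ordered products determine their parameters -/
theorem om_peel (v v' : Fin r → OmI r → F) (hv : ∀ k, omGood r k (v k))
    (hv' : ∀ k, omGood r k (v' k)) (L : List (Fin r)) (hL : L.Pairwise (· < ·))
    (h : (L.map (fun k => rhoG r a b hab k (v k))).prod =
      (L.map (fun k => rhoG r a b hab k (v' k))).prod) : ∀ k ∈ L, v k = v' k := by
  induction L with
  | nil => intro k hk; exact absurd hk List.not_mem_nil
  | cons j t ih =>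
    rw [List.pairwise_cons] at hL
    obtain ⟨hjt, htt⟩ := hL
    rw [List.map_cons, List.map_cons, List.prod_cons, List.prod_cons] at h
    have hfixT : omAct r a b hab (t.map (fun k => rhoG r a b hab k (v k))).prod (omF r j) =
        omF r j := by
      apply omAct_list_fix
      intro g hg
      obtain ⟨k, hk, rfl⟩ := List.mem_map.mp hg
      exact omAct_rhoG_F_of_lt r a b hab k j (hjt k hk) (v k) (hv k)
    have hfixT' : omAct r a b hab (t.map (fun k => rhoG r a b hab k (v' k))).prod (omF r j) =
        omF r j := by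
      apply omAct_list_fix
      intro g hg
      obtain ⟨k, hk, rfl⟩ := List.mem_map.mp hg
      exact omAct_rhoG_F_of_lt r a b hab k j (hjt k hk) (v' k) (hv' k)
    have h1 := congrArg (fun g => omAct r a b hab g (omF r j)) h
    simp only [omAct_mul, hfixT, hfixT'] at h1
    rw [omAct_rhoG_F_self r a b hab j (v j) (hv j), omAct_rhoG_F_self r a b hab j (v' j) (hv' j)]
      at h1
    have h2 := congrFun h1 (Sum.inl (Sum.inl j))
    have hE : omE r j (Sum.inl (Sum.inl j)) = (1 : F) := by
      unfold omE
      rw [Pi.single_apply, if_pos rfl]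
    simp only [Pi.add_apply, Pi.smul_apply, smul_eq_mul, hE, ((hv j) j le_rfl).1,
      ((hv' j) j le_rfl).1, mul_zero, add_zero, mul_one] at h2
    have hQ : omQ r a b hab (v j) = omQ r a b hab (v' j) := by
      have := add_left_cancel h2
      exact neg_injective this
    have hvj : v j = v' j := by
      rw [hQ] at h1
      have := add_left_cancel h1
      have h3 : (-1 : F) • v j = (-1 : F) • v' j := this
      rw [neg_one_smul, neg_one_smul] at h3
      exact neg_injective h3
    intro k hk
    rcases List.mem_cons.mp hk with rfl | hk'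
    · exact hvj
    · rw [hvj] at h
      exact ih htt (mul_left_cancel h) k hk'

/-- the parameter type -/
abbrev OmP (r : ℕ) (F : Type) : Type :=
  ({p : Fin r × Fin r // p.1 ≠ p.2} ⊕ Fin r × Fin 2) → F

/-- the vector `v_k` attached to a parameter -/
def omV (p : OmP r F) (k : Fin r) : OmI r → F := fun idx =>
  match idx with
  | Sum.inl (Sum.inl l) => if h : k < l then p (Sum.inl ⟨(k, l), ne_of_lt h⟩) else 0
  | Sum.inl (Sum.inr l) => if h : k < l then p (Sum.inl ⟨(l, k), ne_of_gt h⟩) else 0
  | Sum.inr j => p (Sum.inr (k, j))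

theorem omV_good (p : OmP r F) (k : Fin r) : omGood r k (omV r p k) := by
  intro l hl
  constructor
  · show (if h : k < l then p (Sum.inl ⟨(k, l), ne_of_lt h⟩) else 0) = 0
    rw [dif_neg (not_lt.mpr hl)]
  · show (if h : k < l then p (Sum.inl ⟨(l, k), ne_of_gt h⟩) else 0) = 0
    rw [dif_neg (not_lt.mpr hl)]

theorem omV_injective : Function.Injective (omV r : OmP r F → Fin r → OmI r → F) := by
  intro p p' h
  funext c
  rcases c with ⟨⟨k, l⟩, hkl⟩ | ⟨k, j⟩
  · rcases lt_or_gt_of_ne hkl with hlt | hgt
    · have := congrFun (congrFun h k) (Sum.inl (Sum.inl l))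
      have h1 : omV r p k (Sum.inl (Sum.inl l)) = p (Sum.inl ⟨(k, l), hkl⟩) := by
        show (if h : k < l then p (Sum.inl ⟨(k, l), ne_of_lt h⟩) else 0) = _
        rw [dif_pos hlt]
      have h2 : omV r p' k (Sum.inl (Sum.inl l)) = p' (Sum.inl ⟨(k, l), hkl⟩) := by
        show (if h : k < l then p' (Sum.inl ⟨(k, l), ne_of_lt h⟩) else 0) = _
        rw [dif_pos hlt]
      rw [h1, h2] at this
      exact this
    · have hgt' : l < k := hgt
      have := congrFun (congrFun h l) (Sum.inl (Sum.inr k))
      have h1 : omV r p l (Sum.inl (Sum.inr k)) = p (Sum.inl ⟨(k, l), hkl⟩) := by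
        show (if h : l < k then p (Sum.inl ⟨(k, l), ne_of_gt h⟩) else 0) = _
        rw [dif_pos hgt']
      have h2 : omV r p' l (Sum.inl (Sum.inr k)) = p' (Sum.inl ⟨(k, l), hkl⟩) := by
        show (if h : l < k then p' (Sum.inl ⟨(k, l), ne_of_gt h⟩) else 0) = _
        rw [dif_pos hgt']
      rw [h1, h2] at this
      exact this
  · exact congrFun (congrFun h k) (Sum.inr j)

/-- the ordered product attached to a parameter -/
noncomputable def omPhi (p : OmP r F) : ↥(omU r a b hab) :=
  ⟨((List.finRange r).map (fun k => rhoG r a b hab k (omV r p k))).prod, by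
    apply Subgroup.list_prod_mem
    intro g hg
    obtain ⟨k, -, rfl⟩ := List.mem_map.mp hg
    exact rhoG_mem r a b hab k _ (omV_good r p k)⟩

theorem omPhi_injective : Function.Injective (omPhi r a b hab) := by
  intro p p' h
  apply omV_injective r
  funext k
  have h' := congrArg Subtype.val h
  exact om_peel r a b hab (omV r p) (omV r p') (omV_good r p) (omV_good r p')
    (List.finRange r) (List.pairwise_lt_finRange r) h' k (List.mem_finRange k)

theorem card_OmP : Fintype.card (OmP r F) = Fintype.card F ^ (r * r - r + r * 2) := by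
  classical
  rw [Fintype.card_fun, Fintype.card_sum, Fintype.card_prod, Fintype.card_fin, Fintype.card_fin]
  congr 2
  rw [Fintype.card_subtype]
  have : (Finset.univ.filter (fun p : Fin r × Fin r => p.1 ≠ p.2)) =
      (Finset.univ : Finset (Fin r)).offDiag := by
    ext p
    simp [Finset.mem_offDiag]
  rw [this, Finset.offDiag_card, Finset.card_univ, Fintype.card_fin]

/-- the order of `omU` -/
theorem card_omU_ge : Fintype.card F ^ (r * r - r + r * 2) ≤ Nat.card ↥(omU r a b hab) := by
  rw [← card_OmP r, ← Nat.card_eq_fintype_card]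
  exact Nat.card_le_card_of_injective _ (omPhi_injective r a b hab)

end

end Cfsg.Agent.Lib.Helper20.SQ
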