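/-
K-SQ pack (S4625), leaf 462506, SUB2: the unipotent group `omU` is a 2-group.
-/
import Cfsg.Agent.Lib.Helper20.SQ.OmCount

set_option autoImplicit false
set_option linter.unusedVariables false
set_option linter.unusedSectionVars false

namespace Cfsg.Agent.Lib.Helper20.SQ

open Matrix Module QuadraticMap Cfsg.Agent.Lib.Helper19 Cfsg.Agent.Lib.Helper08

variable {F : Type} [Field F] [Fintype F] [CharP F 2]

/-- the level of a coordinate: `e_i ↦ i`, `z ↦ r`, `f_i ↦ 2 r - i` -/
def omLv (r : ℕ) : OmI r → ℕ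
  | Sum.inl (Sum.inl i) => (i : ℕ)
  | Sum.inr _ => r
  | Sum.inl (Sum.inr i) => 2 * r - (i : ℕ)

theorem omLv_le (r : ℕ) (idx : OmI r) : omLv r idx ≤ 2 * r := by
  rcases idx with (i | i) | j
  · show (i : ℕ) ≤ 2 * r
    have := i.2; omega
  · show 2 * r - (i : ℕ) ≤ 2 * r
    omega
  · show r ≤ 2 * r
    omega

section
variable (r : ℕ) (a b : F)
  (hab : ∀ z₁ z₂ : F, z₁ ^ 2 + a * z₁ * z₂ + b * z₂ ^ 2 = 0 → z₁ = 0 ∧ z₂ = 0)

/-- unitriangularity with respect to the levels -/
def omTp (g : ↥(Cfsg.isometryGroup F (⇑(omQ r a b hab)))) : Prop :=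
  ∀ (n : ℕ) (x : OmI r → F), (∀ idx, n + 1 ≤ omLv r idx → x idx = 0) →
    ∀ idx, n ≤ omLv r idx → (omAct r a b hab g x - x) idx = 0

theorem omTp_one : omTp r a b hab 1 := by
  intro n x hx idx hidx
  rw [omAct_one, sub_self]
  rfl

theorem omTp_mul (g h : ↥(Cfsg.isometryGroup F (⇑(omQ r a b hab)))) (hg : omTp r a b hab g)
    (hh : omTp r a b hab h) : omTp r a b hab (g * h) := by
  intro n x hx idx hidx
  have hy : ∀ idx, n + 1 ≤ omLv r idx → omAct r a b hab h x idx = 0 := by
    intro i hi
    have h1 := hh n x hx i (by omega)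
    have h2 := hx i hi
    rw [Pi.sub_apply, h2, sub_zero] at h1
    exact h1
  have h1 := hg n _ hy idx hidx
  have h2 := hh n x hx idx hidx
  rw [omAct_mul]
  rw [Pi.sub_apply] at h1 h2 ⊢
  have : omAct r a b hab g (omAct r a b hab h x) idx - x idx =
      (omAct r a b hab g (omAct r a b hab h x) idx - omAct r a b hab h x idx) +
        (omAct r a b hab h x idx - x idx) := by ring
  rw [this, h1, h2, add_zero]

theorem omTp_pow (g : ↥(Cfsg.isometryGroup F (⇑(omQ r a b hab)))) (hg : omTp r a b hab g)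
    (n : ℕ) : omTp r a b hab (g ^ n) := by
  induction n with
  | zero => rw [pow_zero]; exact omTp_one r a b hab
  | succ n ih => rw [pow_succ]; exact omTp_mul r a b hab _ _ ih hg

/-- the support of a good vector lies below the level of `f_k` -/
theorem omGood_lv {k : Fin r} {v : OmI r → F} (h : omGood r k v) (idx : OmI r)
    (hv : v idx ≠ 0) : omLv r idx < 2 * r - (k : ℕ) := by
  have hk := k.2
  rcases idx with (i | i) | j
  · show (i : ℕ) < 2 * r - (k : ℕ)
    have := i.2; omega
  · show 2 * r - (i : ℕ) < 2 * r - (k : ℕ)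
    have hik : ¬ i ≤ k := fun hle => hv (h i hle).2
    have hik' : (k : ℕ) < i := by
      have := not_le.mp hik
      exact this
    have := i.2
    omega
  · show r < 2 * r - (k : ℕ)
    omega

/-- the generators are unitriangular -/
theorem omTp_rhoO (k : Fin r) (v : OmI r → F) (h : omGood r k v) :
    omTp r a b hab (rhoO r a b hab k v h.perp) := by
  intro n x hx idx hidx
  have hk := k.2
  have hact : omAct r a b hab (rhoO r a b hab k v h.perp) x =
      x + (polar (⇑(omQ r a b hab)) x v - omQ r a b hab v * x (Sum.inl (Sum.inr k))) • omE r k +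
        (-x (Sum.inl (Sum.inr k))) • v := by
    unfold omAct
    rw [rhoO_mulVec, rhoLin_apply]
  rw [hact]
  simp only [Pi.sub_apply, Pi.add_apply, Pi.smul_apply, smul_eq_mul]
  -- second term
  have h2 : x (Sum.inl (Sum.inr k)) * v idx = 0 := by
    by_cases hv : v idx = 0
    · rw [hv, mul_zero]
    · have hl := omGood_lv r h idx hv
      have : x (Sum.inl (Sum.inr k)) = 0 := by
        apply hx
        show n + 1 ≤ 2 * r - (k : ℕ)
        omega
      rw [this, zero_mul]
  -- first term
  have h1 : (polar (⇑(omQ r a b hab)) x v - omQ r a b hab v * x (Sum.inl (Sum.inr k))) *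
      omE r k idx = 0 := by
    by_cases hidxk : idx = Sum.inl (Sum.inl k)
    · subst hidxk
      have hnk : n ≤ (k : ℕ) := hidx
      have hxf : ∀ l : Fin r, x (Sum.inl (Sum.inr l)) = 0 := by
        intro l
        apply hx
        show n + 1 ≤ 2 * r - (l : ℕ)
        have := l.2
        omega
      have hxz : ∀ j : Fin 2, x (Sum.inr j) = 0 := by
        intro j
        apply hx
        show n + 1 ≤ r
        omega
      have hxv : ∀ l : Fin r, x (Sum.inl (Sum.inl l)) * v (Sum.inl (Sum.inr l)) = 0 := by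
        intro l
        by_cases hlk : l ≤ k
        · rw [(h l hlk).2, mul_zero]
        · have : x (Sum.inl (Sum.inl l)) = 0 := by
            apply hx
            show n + 1 ≤ (l : ℕ)
            have : (k : ℕ) < l := not_le.mp hlk
            omega
          rw [this, zero_mul]
      have hpol : polar (⇑(omQ r a b hab)) x v = 0 := by
        show polar (Cfsg.quadFormMinus r F a b) x v = 0
        unfold polar Cfsg.quadFormMinus
        simp only [Pi.add_apply, hxf, hxz, zero_add, mul_zero, Finset.sum_const_zero]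
        have : ∀ l : Fin r, (x (Sum.inl (Sum.inl l)) + v (Sum.inl (Sum.inl l))) *
            v (Sum.inl (Sum.inr l)) = v (Sum.inl (Sum.inl l)) * v (Sum.inl (Sum.inr l)) := by
          intro l
          rw [add_mul, hxv l, zero_add]
        simp only [this]
        ring
      rw [hpol, hxf k]
      simp
    · have : omE r k idx = (0 : F) := by
        unfold omE
        rw [Pi.single_apply, if_neg hidxk]
      rw [this, mul_zero]
  rw [h1]
  have : -x (Sum.inl (Sum.inr k)) * v idx = 0 := by rw [neg_mul, h2, neg_zero]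
  rw [this]
  ring

/-- unitriangular elements are unipotent: `g ^ (2 ^ (2 r + 1)) = 1` -/
theorem omTp_pow_eq_one (g : ↥(Cfsg.isometryGroup F (⇑(omQ r a b hab)))) (hg : omTp r a b hab g) :
    g ^ (2 ^ (2 * r + 1)) = 1 := by
  classical
  set A : Matrix (OmI r) (OmI r) F := ((g : GL (OmI r) F) : Matrix (OmI r) (OmI r) F) with hA
  -- `(A - 1) ^ j` lowers levels by `j`
  have hlow : ∀ (j : ℕ) (x : OmI r → F) (idx : OmI r), 2 * r + 1 ≤ omLv r idx + j →
      ((A - 1) ^ j *ᵥ x) idx = 0 := by
    intro j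
    induction j with
    | zero =>
      intro x idx hidx
      have := omLv_le r idx
      omega
    | succ j ih =>
      intro x idx hidx
      rw [pow_succ', ← Matrix.mulVec_mulVec]
      set y := (A - 1) ^ j *ᵥ x with hy
      have hy0 : ∀ i, (2 * r - j) + 1 ≤ omLv r i → y i = 0 := by
        intro i hi
        exact ih x i (by omega)
      have h1 := hg (2 * r - j) y hy0 idx (by omega)
      have h2 : (A - 1) *ᵥ y = omAct r a b hab g y - y := by
        rw [Matrix.sub_mulVec, Matrix.one_mulVec]
        rfl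
      rw [h2]
      exact h1
  have hnil : (A - 1) ^ (2 * r + 1) = 0 := by
    apply Matrix.toLin'.injective
    apply LinearMap.ext
    intro x
    rw [Matrix.toLin'_apply, map_zero, LinearMap.zero_apply]
    funext idx
    exact hlow (2 * r + 1) x idx (by omega)
  have hle : 2 * r + 1 ≤ 2 ^ (2 * r + 1) := (Nat.lt_two_pow_self).le
  have hnil2 : (A - 1) ^ (2 ^ (2 * r + 1)) = 0 := by
    obtain ⟨d, hd⟩ := Nat.exists_eq_add_of_le hle
    rw [hd, pow_add, hnil, zero_mul]
  have : Nonempty (OmI r) := ⟨Sum.inr 0⟩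
  have : CharP (Matrix (OmI r) (OmI r) F) 2 := Matrix.charP 2
  have hfrob : (A - 1) ^ (2 ^ (2 * r + 1)) = A ^ (2 ^ (2 * r + 1)) - 1 := by
    rw [sub_pow_char_pow_of_commute (p := 2) (n := 2 * r + 1) (h := Commute.one_right A), one_pow]
  have hA1 : A ^ (2 ^ (2 * r + 1)) = 1 := by
    rw [hfrob] at hnil2
    exact sub_eq_zero.mp hnil2
  apply Subtype.ext
  apply Units.ext
  rw [Subgroup.coe_pow, Units.val_pow_eq_pow_val, Subgroup.coe_one, Units.val_one]
  exact hA1

theorem omTp_inv (g : ↥(Cfsg.isometryGroup F (⇑(omQ r a b hab)))) (hg : omTp r a b hab g) :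
    omTp r a b hab g⁻¹ := by
  have h1 := omTp_pow_eq_one r a b hab g hg
  have hpos : 0 < 2 ^ (2 * r + 1) := by positivity
  obtain ⟨d, hd⟩ := Nat.exists_eq_add_of_lt hpos
  rw [zero_add] at hd
  have : g⁻¹ = g ^ d := by
    rw [hd, pow_succ] at h1
    exact inv_eq_of_mul_eq_one_left h1
  rw [this]
  exact omTp_pow r a b hab g hg d

theorem omTp_of_mem (g : ↥(Cfsg.isometryGroup F (⇑(omQ r a b hab)))) (hg : g ∈ omU r a b hab) :
    omTp r a b hab g := by
  unfold omU at hg
  induction hg using Subgroup.closure_induction with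
  | mem x hx =>
    obtain ⟨k, v, h, rfl⟩ := hx
    exact omTp_rhoO r a b hab k v h
  | one => exact omTp_one r a b hab
  | mul x y _ _ hx hy => exact omTp_mul r a b hab x y hx hy
  | inv x _ hx => exact omTp_inv r a b hab x hx

/-- SUB2 -/
theorem isPGroup_omU' : IsPGroup 2 (omU r a b hab) := by
  intro g
  refine ⟨2 * r + 1, ?_⟩
  apply Subtype.ext
  rw [Subgroup.coe_pow, Subgroup.coe_one]
  exact omTp_pow_eq_one r a b hab g.1 (omTp_of_mem r a b hab g.1 g.2)

end

end Cfsg.Agent.Lib.Helper20.SQ
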