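/-
K-SQ pack (S4625), leaf 462506, SUB3: transfer of a unipotent subgroup of `Ω⁻` to `PΩ⁻`.
-/
import Cfsg.Agent.Lib.Helper20.SQ.OmDefs

set_option autoImplicit false
set_option linter.unusedVariables false
set_option linter.unusedSectionVars false

namespace Cfsg.Agent.Lib.Helper20.SQ

open Matrix Module QuadraticMap Cfsg.Agent.Lib.Helper19 Cfsg.Agent.Lib.Helper08
  Cfsg.Agent.Lib.Helper38.SQ

variable {F : Type} [Field F] [Fintype F]

theorem sylSq_pomega_minus_of' [CharP F 2] (m : ℕ) (hm : 4 ≤ m) (a b : F)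
    (hab : ∀ z₁ z₂ : F, z₁ ^ 2 + a * z₁ * z₂ + b * z₂ ^ 2 = 0 → z₁ = 0 ∧ z₂ = 0)
    (k : ℕ) (hk : Fintype.card F = 2 ^ k)
    (U : Subgroup ↥(Cfsg.isometryGroup F (⇑(omQ (m - 1) a b hab)))) (hU2 : IsPGroup 2 U)
    (hUΩ : U ≤ Cfsg.Omega F (⇑(omQ (m - 1) a b hab)))
    (hcard : 2 ^ (k * (m * (m - 1))) ≤ Nat.card U) (hsq : ∀ x ∈ U, x ^ 2 ∈ ⁅U, U⁆) :
    SylSq (Cfsg.POmega F (Cfsg.quadFormMinus (m - 1) F a b)) := by
  classical
  have hk3 : 3 ≤ m - 1 := by omega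
  have hQ : (QuadraticMap.polarBilin (omQ (m - 1) a b hab)).Nondegenerate := omQ_nondeg (m - 1) a b hab
  have HT : HypTriple (omQ (m - 1) a b hab) (fun i => Pi.single (Sum.inl (Sum.inl (Fin.castLE hk3 i))) 1)
      (fun i => Pi.single (Sum.inl (Sum.inr (Fin.castLE hk3 i))) 1) :=
    hypTriple_minus (m - 1) hk3 a b hab
  have RP := reflPairs_finite (omQ (m - 1) a b hab) hQ
  have h2 : (2 : F) = 0 := CharTwo.two_eq_zero
  have hcen : Nat.card (Subgroup.center ↥(Cfsg.Omega F ⇑(omQ (m - 1) a b hab))) = 1 :=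
    card_center_Omega_of_not hQ _ _ HT RP (Or.inl h2)
  -- the order
  have hk1 : 1 ≤ k := by
    rcases Nat.eq_zero_or_pos k with h0 | h0
    · rw [h0, pow_zero] at hk
      have := Fintype.one_lt_card (α := F)
      omega
    · exact h0
  have h294 := Cfsg.Agent.S0294.result hk m hm a b hab
  have hqe : (2 ^ k) % 2 = 0 := by
    obtain ⟨j, rfl⟩ := Nat.exists_eq_add_of_le hk1
    rw [pow_add, pow_one]; omega
  have hpe : (2 ^ k) ^ m % 2 = 0 := by
    rw [Nat.pow_mod, hqe, zero_pow (by omega)]; rfl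
  rw [gcd_four_add_one_of_even hpe, one_mul] at h294
  set c := ((2 ^ k) ^ m + 1) * ∏ i ∈ Finset.range (m - 1), ((2 ^ k) ^ (2 * (i + 1)) - 1) with hc
  have hodd : ¬ 2 ∣ c := by
    intro hdvd
    rcases (Nat.Prime.dvd_mul Nat.prime_two).mp hdvd with h | h
    · omega
    · obtain ⟨i, -, hi⟩ := (Nat.Prime.prime Nat.prime_two).exists_mem_finset_dvd h
      have h1 : (2 ^ k) ^ (2 * (i + 1)) % 2 = 0 := by
        rw [Nat.pow_mod, hqe, zero_pow (by omega)]; rfl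
      have h3 : 0 < (2 ^ k) ^ (2 * (i + 1)) := by positivity
      omega
  have hPΩ : Nat.card (Cfsg.POmega F ⇑(omQ (m - 1) a b hab)) = 2 ^ (k * (m * (m - 1))) * c := by
    have : Nat.card (Cfsg.POmega F ⇑(omQ (m - 1) a b hab)) =
        (2 ^ k) ^ (m * (m - 1)) * ((2 ^ k) ^ m + 1) *
          ∏ i ∈ Finset.range (m - 1), ((2 ^ k) ^ (2 * (i + 1)) - 1) := h294
    rw [this, hc, ← pow_mul, mul_assoc]
  have hΩ : Nat.card ↥(Cfsg.Omega F ⇑(omQ (m - 1) a b hab)) = 2 ^ (k * (m * (m - 1))) * c := by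
    rw [Subgroup.card_eq_card_quotient_mul_card_subgroup (Subgroup.center ↥(Cfsg.Omega F ⇑(omQ (m - 1) a b hab))),
      hcen, mul_one]
    exact hPΩ
  have hT : TwoPart ↥(Cfsg.Omega F ⇑(omQ (m - 1) a b hab)) (2 ^ (k * (m * (m - 1)))) := ⟨c, hodd, hΩ⟩
  -- the subgroup inside Ω
  have hU' : Unip2 ↥(Cfsg.Omega F ⇑(omQ (m - 1) a b hab)) (2 ^ (k * (m * (m - 1)))) := by
    refine ⟨U.subgroupOf (Cfsg.Omega F ⇑(omQ (m - 1) a b hab)), ?_, ?_, ?_⟩
    · exact hU2.comap_of_injective _ (Subgroup.subtype_injective _)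
    · rw [Nat.card_congr (Subgroup.subgroupOfEquivOfLe hUΩ).toEquiv]
      exact hcard
    · intro x hx
      have hmap : (U.subgroupOf (Cfsg.Omega F ⇑(omQ (m - 1) a b hab))).map (Cfsg.Omega F ⇑(omQ (m - 1) a b hab)).subtype = U :=
        Subgroup.map_subgroupOf_eq_of_le hUΩ
      have hxU : (x : ↥(Cfsg.isometryGroup F ⇑(omQ (m - 1) a b hab))) ∈ U := hx
      have h1 := hsq _ hxU
      rw [← hmap, ← Subgroup.map_commutator] at h1
      obtain ⟨y, hy, hyx⟩ := h1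
      have : y = x ^ 2 := by
        apply Subgroup.subtype_injective
        rw [hyx]
        simp
      rw [← this]
      exact hy
  have hS : SylSq ↥(Cfsg.Omega F ⇑(omQ (m - 1) a b hab)) := SylSq.of_unip_twoPart _ hU' hT
  exact SylSq.quotient (Subgroup.center ↥(Cfsg.Omega F ⇑(omQ (m - 1) a b hab))) hS

end Cfsg.Agent.Lib.Helper20.SQ
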